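import Groth.Agent.Lib.PBasis.Basic
import Mathlib.Algebra.Algebra.Epi
import Mathlib.RingTheory.Nilpotent.Basic
import Mathlib.RingTheory.Nilpotent.Lemmas
import Mathlib.RingTheory.Ideal.Cotangent
import Mathlib.RingTheory.Ideal.IdempotentFG
import Mathlib.RingTheory.IntegralClosure.IsIntegralClosure.Basic
import Mathlib.Algebra.CharP.Lemmas

/-!
# Purely inseparable ring extensions without differentials are surjective
-/

universe u
open scoped TensorProduct

namespace Groth.Agent.PBasis

open EGA41

theorem isNilpotent_of_mem_ideal (p : ℕ) [Fact p.Prime] {A B : Type u}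
    [CommRing A] [CommRing B] [Algebra A B] [CharP B p] (s : ℕ)
    (hpow : ∀ b : B, b ^ p ^ s ∈ Set.range (algebraMap A B)) :
    ∀ x ∈ KaehlerDifferential.ideal A B, IsNilpotent x := by
  suffices h : KaehlerDifferential.ideal A B ≤ nilradical (B ⊗[A] B) from
    fun x hx => mem_nilradical.mp (h hx)
  rw [← KaehlerDifferential.span_range_eq_ideal, Ideal.span_le]
  rintro _ ⟨b, rfl⟩
  refine mem_nilradical.mpr ⟨p ^ s, ?_⟩
  rcases subsingleton_or_nontrivial (B ⊗[A] B) with hs | hn
  · exact Subsingleton.elim _ _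
  have hp0 : (p : B ⊗[A] B) = 0 := by
    rw [← map_natCast (algebraMap B (B ⊗[A] B)), CharP.cast_eq_zero, map_zero]
  haveI : CharP (B ⊗[A] B) p := (CharP.charP_iff_prime_eq_zero Fact.out).mpr hp0
  obtain ⟨a, ha⟩ := hpow b
  rw [sub_pow_char_pow, Algebra.TensorProduct.tmul_pow, Algebra.TensorProduct.tmul_pow, one_pow, ← ha,
    Algebra.algebraMap_eq_smul_one, TensorProduct.tmul_smul, TensorProduct.smul_tmul', sub_self]

theorem surjective_of_subsingleton_kaehler (p : ℕ) [Fact p.Prime] {A B : Type u}
    [CommRing A] [CommRing B] [Algebra A B] [CharP B p] [Algebra.FiniteType A B] (s : ℕ)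
    (hpow : ∀ b : B, b ^ p ^ s ∈ Set.range (algebraMap A B)) [h0 : Subsingleton Ω[B⁄A]] :
    Function.Surjective (algebraMap A B) := by
  haveI : Algebra.IsIntegral A B := ⟨fun b => by
    obtain ⟨a, ha⟩ := hpow b
    exact IsIntegral.of_pow (pow_pos (Fact.out : p.Prime).pos s) (ha ▸ isIntegral_algebraMap)⟩
  haveI : Module.Finite A B := Algebra.IsIntegral.finite
  have hidem : IsIdempotentElem (KaehlerDifferential.ideal A B) :=
    (Ideal.cotangent_subsingleton_iff _).mp h0
  obtain ⟨e, he, hI⟩ := (Ideal.isIdempotentElem_iff_of_fg _ (KaehlerDifferential.ideal_fg A B)).mp hidem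
  have he0 : e = 0 := (isNilpotent_of_mem_ideal p s hpow e (hI ▸ Submodule.mem_span_singleton_self e)).eq_zero_of_isIdempotentElem he
  rw [← Algebra.isEpi_iff_surjective_algebraMap_of_finite, Algebra.isEpi_iff_forall_one_tmul_eq]
  intro b
  have hb := KaehlerDifferential.one_smul_sub_smul_one_mem_ideal A b
  rw [hI, he0, Submodule.span_zero_singleton] at hb
  exact sub_eq_zero.mp hb

theorem span_D_of_generating (p : ℕ) [Fact p.Prime] {A B : Type u} [CommRing A] [CommRing B] [Algebra A B]
    [CharP B p] {ι : Type u} (x : ι → B) (h : IsPGenerating p A x) :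
    Submodule.span B (Set.range fun i => KaehlerDifferential.D A B (x i)) = ⊤ := by
  rw [eq_top_iff, ← KaehlerDifferential.span_range_derivation, Submodule.span_le]
  rintro _ ⟨q, rfl⟩
  have hq : q ∈ Algebra.adjoin (pPowerSubalgebra p A B) (Set.range x) := by
    rw [(isPGenerating_iff_adjoin p x).mpr h]; trivial
  induction hq using Algebra.adjoin_induction with
  | mem w hw => obtain ⟨i, rfl⟩ := hw; exact Submodule.subset_span ⟨i, rfl⟩
  | algebraMap r => rw [show algebraMap _ B r = (r : B) from rfl, derivation_pPower_eq_zero p _ r.2]; exact zero_mem _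
  | add u v _ _ hu hv => rw [map_add]; exact add_mem hu hv
  | mul u v _ _ hu hv =>
    rw [Derivation.leibniz]
    exact add_mem (Submodule.smul_mem _ _ hv) (Submodule.smul_mem _ _ hu)

theorem generating_of_span_D (p : ℕ) [Fact p.Prime] {A B : Type u} [CommRing A] [CommRing B] [Algebra A B]
    [CharP B p] {ι : Type u} (x : ι → B) [Algebra.FiniteType (pPowerSubalgebra p A B) B]
    (h : Submodule.span B (Set.range fun i => KaehlerDifferential.D A B (x i)) = ⊤) : IsPGenerating p A x := by
  rw [← isPGenerating_iff_adjoin p x]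
  let S' := Algebra.adjoin (pPowerSubalgebra p A B) (Set.range x)
  haveI : Algebra.FiniteType S' B :=
    Algebra.FiniteType.of_restrictScalars_finiteType (pPowerSubalgebra p A B) S' B
  haveI : Subsingleton Ω[B⁄S'] := by
    refine subsingleton_of_forall_eq 0 fun w => ?_
    obtain ⟨v, rfl⟩ := KaehlerDifferential.map_surjective A S' B w
    have hv : v ∈ Submodule.span B (Set.range fun i => KaehlerDifferential.D A B (x i)) := h ▸ trivial
    refine Submodule.span_le (p := LinearMap.ker (KaehlerDifferential.map A S' B B)).mpr ?_ hv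
    rintro _ ⟨i, rfl⟩
    rw [SetLike.mem_coe, LinearMap.mem_ker, KaehlerDifferential.map_D]
    exact (KaehlerDifferential.D S' B).map_algebraMap ⟨x i, Algebra.subset_adjoin ⟨i, rfl⟩⟩
  have hs := surjective_of_subsingleton_kaehler p (A := S') (B := B) 1 fun b =>
    ⟨⟨b ^ p, S'.algebraMap_mem ⟨b ^ p, Algebra.subset_adjoin ⟨b, rfl⟩⟩⟩, by rw [pow_one]; rfl⟩
  rw [eq_top_iff]
  intro b _
  obtain ⟨c, rfl⟩ := hs b
  exact c.2

end Groth.Agent.PBasis
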