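import Groth.Agent.Lib.AdicSmooth.KaehlerSubfield
import Groth.Agent.Lib.PBasis.Nil
import Mathlib.FieldTheory.IntermediateField.Adjoin.Algebra
import Mathlib.LinearAlgebra.LinearIndependent.Lemmas

/-!
# `p`-independence in fields and differentials
-/

universe u
open scoped TensorProduct

namespace Groth.Agent.PBasis

open EGA41 KaehlerSubfield

section subfield

variable {K : Type u} [Field K] (p : ℕ) [Fact p.Prime] [CharP K p]

/-- `L(S)`. -/
def adjS (L : Subfield K) (S : Set K) : Subfield K := (IntermediateField.adjoin L S).toSubfield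

omit [Fact p.Prime] [CharP K p] in
theorem le_adjS (L : Subfield K) (S : Set K) : L ≤ adjS L S := fun c hc =>
  (IntermediateField.adjoin L S).algebraMap_mem ⟨c, hc⟩

theorem subset_adjS (L : Subfield K) (S : Set K) : S ⊆ adjS L S := IntermediateField.subset_adjoin L S

theorem adjS_le {L N : Subfield K} {S : Set K} (h : L ≤ N) (hS : S ⊆ N) : adjS L S ≤ N := by
  intro z hz
  refine IntermediateField.adjoin_induction (F := L) (s := S) (p := fun w _ => w ∈ N) ?_ ?_ ?_ ?_ ?_ hz
  · exact fun w hw => hS hw
  · exact fun c => h c.2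
  · exact fun _ _ _ _ => add_mem
  · exact fun _ _ => inv_mem
  · exact fun _ _ _ _ => mul_mem

theorem D_eq_zero_of_mem_closure {L : Subfield K} {M : Type u} [AddCommGroup M] [Module K M]
    (d : Derivation L K M) {S : Set K} (hS : ∀ s ∈ S, d s = 0) {z : K} (hz : z ∈ adjS L S) : d z = 0 := by
  refine IntermediateField.adjoin_induction (F := L) (s := S) (p := fun w _ => d w = 0) ?_ ?_ ?_ ?_ ?_ hz
  · exact hS
  · exact fun c => d.map_algebraMap c
  · exact fun _ _ _ _ hx hy => by rw [map_add, hx, hy, add_zero]
  · exact fun _ _ hx => by rw [Derivation.leibniz_inv, hx, smul_zero]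
  · exact fun _ _ _ _ hx hy => by rw [Derivation.leibniz, hx, hy, smul_zero, smul_zero, add_zero]

theorem D_mem_span_of_mem_adjS (L : Subfield K) {S : Set K} {z : K} (hz : z ∈ adjS L S) :
    KaehlerDifferential.D L K z ∈ Submodule.span K (KaehlerDifferential.D L K '' S) := by
  let W := Submodule.span K (KaehlerDifferential.D L K '' S)
  have h := D_eq_zero_of_mem_closure (W.mkQ.compDer (KaehlerDifferential.D L K))
    (fun s hs => (Submodule.Quotient.mk_eq_zero W).mpr (Submodule.subset_span ⟨s, hs, rfl⟩)) hz
  exact (Submodule.Quotient.mk_eq_zero W).mp h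

include p in
theorem exists_derivation_adjS (L : Subfield K) (hL : ∀ x : K, x ^ p ∈ L) {S : Set K} {z : K}
    (hz : z ∉ adjS L S) : ∃ d : Derivation L K K, (∀ s ∈ S, d s = 0) ∧ d z = 1 := by
  obtain ⟨d, hd⟩ := exists_derivation p (adjS L S) (fun x => le_adjS L S (hL x)) hz
  refine ⟨{ toFun := d
            map_add' := map_add d
            map_smul' := fun c x => d.map_smul (⟨c, le_adjS L S c.2⟩ : adjS L S) x
            map_one_eq_zero' := d.map_one_eq_zero
            leibniz' := d.leibniz }, fun s hs => d.map_algebraMap ⟨s, subset_adjS L S hs⟩, hd⟩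

theorem linearIndependent_D_iff (L : Subfield K) (hL : ∀ x : K, x ^ p ∈ L) {ι : Type u} (x : ι → K) :
    LinearIndependent K (fun i => KaehlerDifferential.D L K (x i)) ↔ ∀ a, x a ∉ adjS L (x '' {b | b ≠ a}) := by
  classical
  refine ⟨fun h a ha => ?_, fun h => linearIndependent_iff.mpr fun l hl => ?_⟩
  · have h2 := D_mem_span_of_mem_adjS L ha
    rw [Set.image_image] at h2
    exact h.notMem_span_image (s := {b | b ≠ a}) (fun h => h rfl) h2
  · ext a
    obtain ⟨d, hd0, hd1⟩ := exists_derivation_adjS p L hL (h a)
    have h2 := congrArg d.liftKaehlerDifferential hl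
    rw [Finsupp.linearCombination_apply, map_finsuppSum, map_zero, Finsupp.sum_eq_single a] at h2
    · simpa [map_smul, hd1] using h2
    · intro b _ hb
      rw [map_smul, Derivation.liftKaehlerDifferential_comp_D, hd0 _ ⟨b, hb, rfl⟩, smul_zero]
    · simp

theorem span_D_eq_top_iff (L : Subfield K) (hL : ∀ x : K, x ^ p ∈ L) (S : Set K) :
    Submodule.span K (KaehlerDifferential.D L K '' S) = ⊤ ↔ adjS L S = ⊤ := by
  refine ⟨fun h => ?_, fun h => ?_⟩
  · refine eq_top_iff.mpr fun z _ => ?_
    by_contra hz
    obtain ⟨d, hd0, hd1⟩ := exists_derivation_adjS p L hL hz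
    have h1 : Submodule.span K (KaehlerDifferential.D L K '' S) ≤ LinearMap.ker d.liftKaehlerDifferential := by
      rw [Submodule.span_le]
      rintro _ ⟨s, hs, rfl⟩
      rw [SetLike.mem_coe, LinearMap.mem_ker, Derivation.liftKaehlerDifferential_comp_D, hd0 s hs]
    have h2 : d.liftKaehlerDifferential (KaehlerDifferential.D L K z) = 0 := h1 (h ▸ Submodule.mem_top)
    rw [Derivation.liftKaehlerDifferential_comp_D, hd1] at h2
    exact one_ne_zero h2
  · rw [eq_top_iff, ← KaehlerDifferential.span_range_derivation, Submodule.span_le]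
    rintro _ ⟨z, rfl⟩
    exact D_mem_span_of_mem_adjS L (h ▸ Subfield.mem_top z)

theorem adjS_eq_adjoin (L : Subfield K) (hL : ∀ x : K, x ^ p ∈ L) (S : Set K) (z : K) :
    z ∈ adjS L S ↔ z ∈ Algebra.adjoin L S := by
  show z ∈ (IntermediateField.adjoin L S).toSubalgebra ↔ _
  rw [IntermediateField.adjoin_toSubalgebra_of_isAlgebraic fun x _ => (KaehlerSubfield.isIntegral p L hL x).isAlgebraic]

theorem linearIndependent_pMonomial_iff (L : Subfield K) (hL : ∀ x : K, x ^ p ∈ L) {ι : Type u} (x : ι → K) :
    LinearIndependent L (fun e : {e : ι →₀ ℕ // ∀ i, e i < p} => pMonomial x e.1) ↔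
      ∀ a, x a ∉ adjS L (x '' {b | b ≠ a}) := by
  classical
  have hp0 : 0 < p := (Fact.out : p.Prime).pos
  refine ⟨fun h a ha => ?_, fun h => ?_⟩
  · rw [adjS_eq_adjoin p L hL, Set.image_eq_range, ← Subalgebra.mem_toSubmodule] at ha
    replace ha : x a ∈ Submodule.span L (Set.range fun e : {e : {b // b ≠ a} →₀ ℕ // ∀ i, e i < p} =>
        pMonomial (fun b : {b // b ≠ a} => x b) e.1) := by
      rw [span_pMonomial_eq_adjoin p (R := L) (fun b : {b // b ≠ a} => x b) fun b => ⟨⟨_, hL (x b)⟩, rfl⟩]
      exact ha
    let δ : {e : ι →₀ ℕ // ∀ i, e i < p} := ⟨Finsupp.single a 1, fun i => by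
      rw [Finsupp.single_apply]; split_ifs
      · exact (Fact.out : p.Prime).one_lt
      · exact hp0⟩
    refine h.notMem_span_image (s := {e | e.1 a = 0}) (x := δ) (by simp [δ]) ?_
    rw [show pMonomial x δ.1 = x a by simp [δ, pMonomial]]
    refine Submodule.span_mono ?_ ha
    rintro _ ⟨e, rfl⟩
    refine ⟨⟨e.1.embDomain (Function.Embedding.subtype _), fun i => ?_⟩, ?_, ?_⟩
    · by_cases hi : i ∈ Set.range (Function.Embedding.subtype fun b => b ≠ a)
      · obtain ⟨j, rfl⟩ := hi
        rw [Finsupp.embDomain_apply_self]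
        exact e.2 j
      · rw [Finsupp.embDomain_notin_range _ _ _ hi]
        exact hp0
    · refine Finsupp.embDomain_notin_range _ _ _ ?_
      rintro ⟨⟨j, hj⟩, hje⟩
      exact hj hje
    · simp [pMonomial, Finsupp.prod_embDomain]
  · suffices key : ∀ (s : Finset ι) (T : Finset (ι →₀ ℕ)), (∀ e ∈ T, (∀ i, e i < p) ∧ e.support ⊆ s) →
        ∀ g : (ι →₀ ℕ) → K, (∀ e, g e ∈ L) → ∑ e ∈ T, g e * pMonomial x e = 0 → ∀ e ∈ T, g e = 0 by
      rw [linearIndependent_iff']
      intro T g hg e he
      let G : (ι →₀ ℕ) → K := fun e => if h : ∀ i, e i < p then (g ⟨e, h⟩ : K) else 0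
      have hG : ∀ e, G e ∈ L := fun e => by
        simp only [G]; split_ifs with h1
        · exact (g ⟨e, h1⟩).2
        · exact zero_mem L
      have hGe : ∀ e : {e : ι →₀ ℕ // ∀ i, e i < p}, G e.1 = g e := fun e => dif_pos e.2
      refine Subtype.ext ((hGe e).symm.trans (key (T.biUnion fun e => e.1.support) (T.map (Function.Embedding.subtype _))
        (fun e he => ?_) G hG ?_ e.1 (Finset.mem_map.mpr ⟨e, he, rfl⟩)))
      · obtain ⟨e', he', rfl⟩ := Finset.mem_map.mp he
        exact ⟨e'.2, Finset.subset_biUnion_of_mem (fun e => e.1.support) he'⟩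
      · rw [Finset.sum_map]
        simp only [Function.Embedding.subtype_apply, hGe]
        exact hg
    intro s
    induction s using Finset.induction_on with
    | empty =>
      intro T hT g _ hg e he
      have hall : ∀ e' ∈ T, e' = 0 := fun e' he' =>
        Finsupp.support_eq_empty.mp (Finset.subset_empty.mp (hT e' he').2)
      rw [Finset.sum_eq_single e (fun b hb hbe => absurd ((hall b hb).trans (hall e he).symm) hbe)
        (fun hn => absurd he hn), hall e he, pMonomial_zero, mul_one] at hg
      rw [hall e he]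
      exact hg
    | insert a s has ih =>
      intro T hT g hgL hg e he
      let M := adjS L (x '' {b | b ≠ a})
      let c : ℕ → K := fun j => ∑ e ∈ T.filter (fun e => e a = j), g e * pMonomial x (e.erase a)
      have hc : ∀ j, c j ∈ M := fun j => sum_mem fun e _ => mul_mem (le_adjS _ _ (hgL e)) (prod_mem fun i hi =>
        pow_mem (subset_adjS L (x '' {b | b ≠ a})
          (Set.mem_image_of_mem x (show i ∈ {b | b ≠ a} from fun h => by simp [h] at hi))) _)
      have hsum : ∑ j ∈ Finset.range p, c j * x a ^ j = 0 := by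
        rw [← hg]
        simp only [c, Finset.sum_mul]
        rw [← Finset.sum_fiberwise_of_maps_to (s := T) (t := Finset.range p) (g := fun e => e a)
          (fun e he => Finset.mem_range.mpr ((hT e he).1 a))]
        refine Finset.sum_congr rfl fun j _ => Finset.sum_congr rfl fun e he => ?_
        obtain ⟨-, rfl⟩ := Finset.mem_filter.mp he
        conv_rhs => rw [show pMonomial x e = pMonomial x (e.erase a) * x a ^ e a by
          rw [← pMonomial_single, ← pMonomial_add, Finsupp.erase_add_single]]
        ring
      have hcj : c (e a) = 0 := coeff_unique p M (fun y => le_adjS _ _ (hL y)) (h a) c (fun _ => 0) hc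
        (fun _ => zero_mem M) (by simpa using hsum) ((hT e he).1 a)
      let Tj := T.filter (fun e' => e' a = e a)
      have hinj : Set.InjOn (Finsupp.erase a) (Tj : Set (ι →₀ ℕ)) := by
        intro e₁ h₁ e₂ h₂ h12
        rw [← Finsupp.erase_add_single a e₁, ← Finsupp.erase_add_single a e₂, h12,
          (Finset.mem_filter.mp h₁).2, (Finset.mem_filter.mp h₂).2]
      have key := ih (Tj.image (Finsupp.erase a)) (fun f hf => by
          obtain ⟨e', he', rfl⟩ := Finset.mem_image.mp hf
          have h' := hT e' (Finset.mem_filter.mp he').1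
          refine ⟨fun i => ?_, ?_⟩
          · by_cases hi : i = a
            · subst hi; simp [hp0]
            · rw [Finsupp.erase_ne hi]; exact h'.1 i
          · intro i hi
            simp only [Finsupp.support_erase, Finset.mem_erase] at hi
            exact (Finset.mem_insert.mp (h'.2 hi.2)).resolve_left hi.1)
        (fun f => g (f + Finsupp.single a (e a))) (fun _ => hgL _) (by
          rw [Finset.sum_image hinj]
          refine (Finset.sum_congr rfl fun e' he' => ?_).trans hcj
          rw [← (Finset.mem_filter.mp he').2, Finsupp.erase_add_single])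
        (e.erase a) (Finset.mem_image.mpr ⟨e, Finset.mem_filter.mpr ⟨he, rfl⟩, rfl⟩)
      simpa [Finsupp.erase_add_single] using key

end subfield

section algebra

variable (p : ℕ) [Fact p.Prime] (k K : Type u) [Field k] [Field K] [Algebra k K] [CharP K p]

/-- `k[K^p]` as a subfield. -/
def pField : Subfield K :=
  { (pPowerSubalgebra p k K).toSubring with
    inv_mem' := fun x hx => by
      rcases eq_or_ne x 0 with rfl | h0
      · simpa using hx
      · have h : x⁻¹ = x ^ (p - 1) * (x⁻¹) ^ p := by
          have hp : p - 1 + 1 = p := Nat.succ_pred_eq_of_pos (Fact.out : p.Prime).pos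
          conv_rhs => rw [← hp, pow_succ, ← mul_assoc, Nat.add_sub_cancel, ← mul_pow, mul_inv_cancel₀ h0, one_pow, one_mul]
        show x⁻¹ ∈ pPowerSubalgebra p k K
        rw [h]
        exact mul_mem (pow_mem hx _) (Algebra.subset_adjoin ⟨x⁻¹, rfl⟩) }

omit [CharP K p] in
theorem mem_pField {z : K} : z ∈ pField p k K ↔ z ∈ pPowerSubalgebra p k K := Iff.rfl

theorem pow_mem_pField (x : K) : x ^ p ∈ pField p k K := Algebra.subset_adjoin ⟨x, rfl⟩

theorem exists_equiv_pField :
    ∃ e : Ω[K⁄k] ≃ₗ[K] Ω[K⁄pField p k K], ∀ y, e (KaehlerDifferential.D k K y) = KaehlerDifferential.D (pField p k K) K y := by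
  let d1 : Derivation k K Ω[K⁄pField p k K] :=
    { toFun := KaehlerDifferential.D (pField p k K) K
      map_add' := map_add _
      map_smul' := fun c x => by
        show KaehlerDifferential.D (pField p k K) K (c • x) = c • KaehlerDifferential.D (pField p k K) K x
        rw [Algebra.smul_def, Derivation.leibniz, show KaehlerDifferential.D (pField p k K) K (algebraMap k K c) = 0 from
          (KaehlerDifferential.D (pField p k K) K).map_algebraMap
            ⟨algebraMap k K c, (pPowerSubalgebra p k K).algebraMap_mem c⟩,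
          smul_zero, add_zero, algebraMap_smul]
      map_one_eq_zero' := Derivation.map_one_eq_zero _
      leibniz' := Derivation.leibniz _ }
  let d2 : Derivation (pField p k K) K Ω[K⁄k] :=
    { toFun := KaehlerDifferential.D k K
      map_add' := map_add _
      map_smul' := fun c x => by
        show KaehlerDifferential.D k K ((c : K) * x) = (c : K) • KaehlerDifferential.D k K x
        rw [Derivation.leibniz, derivation_pPower_eq_zero p _ ((mem_pField p k K).mp c.2), smul_zero, add_zero]
      map_one_eq_zero' := Derivation.map_one_eq_zero _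
      leibniz' := Derivation.leibniz _ }
  have h1 : ∀ y, d1.liftKaehlerDifferential (KaehlerDifferential.D k K y) = KaehlerDifferential.D (pField p k K) K y :=
    fun y => Derivation.liftKaehlerDifferential_comp_D d1 y
  have h2 : ∀ y, d2.liftKaehlerDifferential (KaehlerDifferential.D (pField p k K) K y) = KaehlerDifferential.D k K y :=
    fun y => Derivation.liftKaehlerDifferential_comp_D d2 y
  refine ⟨LinearEquiv.ofLinear d1.liftKaehlerDifferential d2.liftKaehlerDifferential ?_ ?_, h1⟩
  · exact LinearMap.ext_on_range (KaehlerDifferential.span_range_derivation _ K) fun y => by simp [h2, h1]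
  · exact LinearMap.ext_on_range (KaehlerDifferential.span_range_derivation _ K) fun y => by simp [h2, h1]

variable {k K} {ι : Type u} (x : ι → K)

theorem isPIndependent_iff_notMem :
    IsPIndependent p k x ↔ ∀ a, x a ∉ adjS (pField p k K) (x '' {b | b ≠ a}) := by
  rw [← linearIndependent_pMonomial_iff p (pField p k K) (pow_mem_pField p k K) x, IsPIndependent,
    linearIndependent_iff', linearIndependent_iff']
  exact ⟨fun h s g hg i hi => Subtype.ext (congrArg Subtype.val (h s (fun j => ⟨(g j).1, (g j).2⟩) hg i hi) :),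
    fun h s g hg i hi => Subtype.ext (congrArg Subtype.val (h s (fun j => ⟨(g j).1, (g j).2⟩) hg i hi) :)⟩

theorem isPIndependent_iff :
    IsPIndependent p k x ↔ LinearIndependent K fun i => KaehlerDifferential.D k K (x i) := by
  rw [isPIndependent_iff_notMem, ← linearIndependent_D_iff p (pField p k K) (pow_mem_pField p k K) x]
  obtain ⟨e, he⟩ := exists_equiv_pField p k K
  rw [← e.toLinearMap.linearIndependent_iff e.ker (v := fun i => KaehlerDifferential.D k K (x i))]
  refine iff_of_eq ?_
  congr 1
  exact funext fun i => (he (x i)).symm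

theorem isPGenerating_iff :
    IsPGenerating p k x ↔ Submodule.span K (Set.range fun i => KaehlerDifferential.D k K (x i)) = ⊤ := by
  refine ⟨span_D_of_generating p x, fun h => ?_⟩
  rw [← isPGenerating_iff_adjoin p x]
  obtain ⟨e, he⟩ := exists_equiv_pField p k K
  have h' : adjS (pField p k K) (Set.range x) = ⊤ := by
    rw [← span_D_eq_top_iff p _ (pow_mem_pField p k K), ← Set.range_comp]
    have := congrArg (Submodule.map e.toLinearMap) h
    rw [Submodule.map_span, ← Set.range_comp, Submodule.map_top, LinearMap.range_eq_top.mpr e.surjective] at this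
    exact (congrArg (fun f => Submodule.span K (Set.range f)) (funext fun i => (he (x i)).symm)).trans this
  rw [eq_top_iff]
  rintro z -
  have hz := (adjS_eq_adjoin p _ (pow_mem_pField p k K) (Set.range x) z).mp (h' ▸ Subfield.mem_top z)
  clear h'
  induction hz using Algebra.adjoin_induction with
  | mem w hw => exact Algebra.subset_adjoin hw
  | algebraMap r => exact Subalgebra.algebraMap_mem _ (⟨r.1, r.2⟩ : pPowerSubalgebra p k K)
  | add u v _ _ hu hv => exact add_mem hu hv
  | mul u v _ _ hu hv => exact mul_mem hu hv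

theorem adjoin_pow_toSubfield (T : Set K) :
    (IntermediateField.adjoin k ((Set.range fun y : K => y ^ p) ∪ T)).toSubfield = adjS (pField p k K) T := by
  refine le_antisymm ?_ (adjS_le ?_ ?_)
  · intro z hz
    refine IntermediateField.adjoin_induction (F := k) (p := fun w _ => w ∈ adjS (pField p k K) T) ?_ ?_ ?_ ?_ ?_ hz
    · rintro w (⟨y, rfl⟩ | hw)
      · exact le_adjS _ _ (pow_mem_pField p k K y)
      · exact subset_adjS _ _ hw
    · exact fun c => le_adjS _ _ ((pPowerSubalgebra p k K).algebraMap_mem c)
    · exact fun _ _ _ _ => add_mem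
    · exact fun _ _ => inv_mem
    · exact fun _ _ _ _ => mul_mem
  · intro z hz
    exact Algebra.adjoin_le (S := (IntermediateField.adjoin k ((Set.range fun y : K => y ^ p) ∪ T)).toSubalgebra)
      (fun w hw => IntermediateField.subset_adjoin k _ (Or.inl hw)) hz
  · exact fun w hw => IntermediateField.subset_adjoin k _ (Or.inr hw)

end algebra

end Groth.Agent.PBasis
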