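import Groth.Prelude.Def_EGA41
import Mathlib.Algebra.MvPolynomial.PDeriv
import Mathlib.Algebra.MvPolynomial.Derivation
import Mathlib.RingTheory.MvPolynomial.Basic
import Mathlib.RingTheory.Kaehler.Basic
import Mathlib.Algebra.CharP.Lemmas
import Mathlib.Algebra.CharP.Algebra
import Mathlib.RingTheory.Finiteness.Basic

/-!
# `p`-monomials, presentations by `p`-bases
-/

universe u
open scoped TensorProduct

namespace Groth.Agent.PBasis

open EGA41

section monomials

variable (p : ℕ) [Fact p.Prime] {R Q : Type u} [CommRing R] [CommRing Q] [Algebra R Q] {ι : Type u}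

theorem pMonomial_zero (x : ι → Q) : pMonomial x 0 = 1 := Finsupp.prod_zero_index

theorem pMonomial_single (x : ι → Q) (i : ι) (n : ℕ) : pMonomial x (Finsupp.single i n) = x i ^ n :=
  Finsupp.prod_single_index (pow_zero _)

theorem pMonomial_add (x : ι → Q) (e f : ι →₀ ℕ) : pMonomial x (e + f) = pMonomial x e * pMonomial x f :=
  Finsupp.prod_add_index' (fun _ => pow_zero _) fun _ _ _ => pow_add _ _ _

theorem pMonomial_mul_mem (x : ι → Q) (hx : ∀ i, x i ^ p ∈ Set.range (algebraMap R Q))
    (e : ι →₀ ℕ) :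
    pMonomial x e ∈ Submodule.span R (Set.range fun e : {e : ι →₀ ℕ // ∀ i, e i < p} => pMonomial x e.1) := by
  classical
  suffices h : ∀ n, ∀ e : ι →₀ ℕ, e.degree = n → pMonomial x e ∈
      Submodule.span R (Set.range fun e : {e : ι →₀ ℕ // ∀ i, e i < p} => pMonomial x e.1) from h _ e rfl
  intro n
  induction n using Nat.strong_induction_on with
  | _ n ih =>
    intro e he
    by_cases hred : ∀ i, e i < p
    · exact Submodule.subset_span ⟨⟨e, hred⟩, rfl⟩
    push Not at hred
    obtain ⟨i, hi⟩ := hred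
    obtain ⟨r, hr⟩ := hx i
    have hsplit : Finsupp.single i p + (e - Finsupp.single i p) = e := by
      ext j
      by_cases hj : i = j
      · subst hj; simp; omega
      · simp [hj]
    rw [← hsplit, pMonomial_add, pMonomial_single, ← hr, ← Algebra.smul_def]
    refine Submodule.smul_mem _ _ (ih (e - Finsupp.single i p).degree ?_ _ rfl)
    have h := congrArg Finsupp.degree hsplit
    rw [map_add, Finsupp.degree_single] at h
    have hp : 0 < p := (Fact.out : p.Prime).pos
    omega

theorem span_pMonomial_eq_adjoin (x : ι → Q) (hx : ∀ i, x i ^ p ∈ Set.range (algebraMap R Q)) :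
    Submodule.span R (Set.range fun e : {e : ι →₀ ℕ // ∀ i, e i < p} => pMonomial x e.1) =
      Subalgebra.toSubmodule (Algebra.adjoin R (Set.range x)) := by
  refine le_antisymm (Submodule.span_le.mpr ?_) ?_
  · rintro _ ⟨e, rfl⟩
    show pMonomial x e.1 ∈ Algebra.adjoin R (Set.range x)
    exact prod_mem fun i _ => pow_mem (Algebra.subset_adjoin (Set.mem_range_self i)) (e.1 i)
  rw [Algebra.adjoin_eq_span, Submodule.span_le]
  intro z hz
  suffices ∃ e : ι →₀ ℕ, pMonomial x e = z by
    obtain ⟨e, rfl⟩ := this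
    exact pMonomial_mul_mem p x hx e
  induction hz using Submonoid.closure_induction with
  | mem w hw =>
    obtain ⟨i, rfl⟩ := hw
    exact ⟨Finsupp.single i 1, by rw [pMonomial_single, pow_one]⟩
  | one => exact ⟨0, pMonomial_zero x⟩
  | mul a b _ _ ha hb =>
    obtain ⟨e, rfl⟩ := ha
    obtain ⟨f, rfl⟩ := hb
    exact ⟨e + f, pMonomial_add x e f⟩

theorem map_pMonomial {Q' : Type u} [CommRing Q'] [Algebra R Q'] (φ : Q →ₐ[R] Q') (x : ι → Q) (e : ι →₀ ℕ) :
    φ (pMonomial x e) = pMonomial (fun i => φ (x i)) e := by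
  simp only [pMonomial, map_finsuppProd, map_pow]

theorem adjoin_eq_top_of_span (x : ι → Q) (hx : ∀ i, x i ^ p ∈ Set.range (algebraMap R Q))
    (hspan : Submodule.span R (Set.range fun e : {e : ι →₀ ℕ // ∀ i, e i < p} => pMonomial x e.1) = ⊤) :
    Algebra.adjoin R (Set.range x) = ⊤ := by
  rw [span_pMonomial_eq_adjoin p x hx] at hspan
  exact Algebra.toSubmodule_eq_top.mp hspan

/-- The ideal of relations `Xᵢ^p - aᵢ`. -/
noncomputable def relIdeal (a : ι → R) : Ideal (MvPolynomial ι R) :=
  Ideal.span (Set.range fun i => MvPolynomial.X i ^ p - MvPolynomial.C (a i))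

theorem ker_aeval_eq (x : ι → Q) (a : ι → R) (ha : ∀ i, x i ^ p = algebraMap R Q (a i))
    (hli : LinearIndependent R fun e : {e : ι →₀ ℕ // ∀ i, e i < p} => pMonomial x e.1) :
    RingHom.ker (MvPolynomial.aeval x : MvPolynomial ι R →ₐ[R] Q) = relIdeal p a := by
  have hle : relIdeal p a ≤ RingHom.ker (MvPolynomial.aeval x : MvPolynomial ι R →ₐ[R] Q) := by
    refine Ideal.span_le.mpr ?_
    rintro _ ⟨i, rfl⟩
    show MvPolynomial.aeval x (MvPolynomial.X i ^ p - MvPolynomial.C (a i)) = 0
    simp [ha]
  refine le_antisymm (fun P hP => ?_) hle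
  let X' : ι → MvPolynomial ι R ⧸ relIdeal p a := fun i => Ideal.Quotient.mk _ (MvPolynomial.X i)
  have hX' : ∀ i, X' i ^ p ∈ Set.range (algebraMap R (MvPolynomial ι R ⧸ relIdeal p a)) := fun i =>
    ⟨a i, by
      rw [← map_pow, eq_comm, IsScalarTower.algebraMap_apply R (MvPolynomial ι R) (_ ⧸ _), MvPolynomial.algebraMap_eq]
      exact Ideal.Quotient.eq.mpr (Ideal.subset_span ⟨i, rfl⟩)⟩
  let φ : (MvPolynomial ι R ⧸ relIdeal p a) →ₐ[R] Q := Ideal.Quotient.liftₐ _ (MvPolynomial.aeval x) hle
  have hφ : (fun i => φ (X' i)) = x := funext fun i => MvPolynomial.aeval_X x i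
  have htop : Algebra.adjoin R (Set.range X') = ⊤ := by
    have h := congrArg (Subalgebra.map (Ideal.Quotient.mkₐ R (relIdeal p a))) (MvPolynomial.adjoin_range_X (σ := ι) (R := R))
    rw [AlgHom.map_adjoin, ← Set.range_comp, Algebra.map_top, (AlgHom.range_eq_top _).mpr (Ideal.Quotient.mkₐ_surjective _ _)] at h
    exact h
  obtain ⟨c, hc⟩ := Finsupp.mem_span_range_iff_exists_finsupp.mp
    (show Ideal.Quotient.mk _ P ∈ Submodule.span R (Set.range fun e : {e : ι →₀ ℕ // ∀ i, e i < p} => pMonomial X' e.1) by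
      rw [span_pMonomial_eq_adjoin p X' hX', htop]; trivial)
  have h0 : c.sum (fun e r => r • pMonomial x e.1) = 0 := by
    have h := congrArg φ hc
    rw [map_finsuppSum, show φ (Ideal.Quotient.mk _ P) = 0 from hP] at h
    simpa only [map_smul, map_pMonomial, hφ] using h
  have hc0 : c = 0 := linearIndependent_iff.mp hli c (by rw [Finsupp.linearCombination_apply]; exact h0)
  rw [hc0, Finsupp.sum_zero_index] at hc
  exact Ideal.Quotient.eq_zero_iff_mem.mp hc.symm

theorem existsUnique_lift (x : ι → Q) (a : ι → R) (ha : ∀ i, x i ^ p = algebraMap R Q (a i))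
    (hli : LinearIndependent R fun e : {e : ι →₀ ℕ // ∀ i, e i < p} => pMonomial x e.1)
    (hspan : Submodule.span R (Set.range fun e : {e : ι →₀ ℕ // ∀ i, e i < p} => pMonomial x e.1) = ⊤)
    {C : Type u} [CommRing C] [Algebra R C] (c : ι → C) (hc : ∀ i, c i ^ p = algebraMap R C (a i)) :
    ∃! φ : Q →ₐ[R] C, ∀ i, φ (x i) = c i := by
  have htop := adjoin_eq_top_of_span p x (fun i => ⟨a i, (ha i).symm⟩) hspan
  have hsurj : Function.Surjective (MvPolynomial.aeval x : MvPolynomial ι R →ₐ[R] Q) := by
    rw [← AlgHom.range_eq_top, ← htop, Algebra.adjoin_range_eq_range_aeval]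
  have hle : RingHom.ker (MvPolynomial.aeval x : MvPolynomial ι R →ₐ[R] Q) ≤
      RingHom.ker (MvPolynomial.aeval c : MvPolynomial ι R →ₐ[R] C) := by
    rw [ker_aeval_eq p x a ha hli]
    refine Ideal.span_le.mpr ?_
    rintro _ ⟨i, rfl⟩
    show MvPolynomial.aeval c (MvPolynomial.X i ^ p - MvPolynomial.C (a i)) = 0
    simp [hc]
  let φ : Q →ₐ[R] C :=
    (Ideal.Quotient.liftₐ _ (MvPolynomial.aeval c) fun P hP => RingHom.mem_ker.mp (hle hP)).comp
      (Ideal.quotientKerAlgEquivOfSurjective hsurj).symm.toAlgHom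
  have hφ : ∀ P, φ (MvPolynomial.aeval x P) = MvPolynomial.aeval c P := fun P => by
    have h1 : (Ideal.quotientKerAlgEquivOfSurjective hsurj).symm (MvPolynomial.aeval x P) =
        Ideal.Quotient.mk _ P := (AlgEquiv.symm_apply_eq _).mpr rfl
    exact (congrArg (Ideal.Quotient.liftₐ _ (MvPolynomial.aeval c) fun P hP => RingHom.mem_ker.mp (hle hP)) h1).trans rfl
  refine ⟨φ, fun i => by simpa using hφ (MvPolynomial.X i), fun ψ hψ => ?_⟩
  refine AlgHom.ext_of_adjoin_eq_top htop ?_
  rintro _ ⟨i, rfl⟩
  rw [hψ i]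
  simpa using (hφ (MvPolynomial.X i)).symm

theorem exists_kaehler_basis [CharP Q p] (x : ι → Q) (a : ι → R) (ha : ∀ i, x i ^ p = algebraMap R Q (a i))
    (hli : LinearIndependent R fun e : {e : ι →₀ ℕ // ∀ i, e i < p} => pMonomial x e.1)
    (hspan : Submodule.span R (Set.range fun e : {e : ι →₀ ℕ // ∀ i, e i < p} => pMonomial x e.1) = ⊤) :
    ∃ b : Module.Basis ι Q Ω[Q⁄R], ∀ i, b i = KaehlerDifferential.D R Q (x i) := by
  classical
  have htop := adjoin_eq_top_of_span p x (fun i => ⟨a i, (ha i).symm⟩) hspan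
  have hsurj : Function.Surjective (MvPolynomial.aeval x : MvPolynomial ι R →ₐ[R] Q) := by
    rw [← AlgHom.range_eq_top, ← htop, Algebra.adjoin_range_eq_range_aeval]
  let g : MvPolynomial ι R → ι → Q := fun P i => MvPolynomial.aeval x (MvPolynomial.pderiv i P)
  have hgrel : ∀ P ∈ relIdeal p a, ∀ i, g P i = 0 := by
    intro P hP i
    induction hP using Submodule.span_induction with
    | mem _ h =>
      obtain ⟨j, rfl⟩ := h
      simp only [g, map_sub, MvPolynomial.pderiv_C, sub_zero, Derivation.leibniz_pow, map_nsmul]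
      simp [← Nat.cast_smul_eq_nsmul Q]
    | zero => simp [g]
    | add s t _ _ hs ht => simp only [g, map_add] at hs ht ⊢; rw [hs, ht, add_zero]
    | smul r s hs' hs =>
      simp only [g, smul_eq_mul, Derivation.leibniz, map_add, map_mul] at hs ⊢
      have h0 : MvPolynomial.aeval x s = 0 := by
        have h : s ∈ RingHom.ker (MvPolynomial.aeval x : MvPolynomial ι R →ₐ[R] Q) := by
          rw [ker_aeval_eq p x a ha hli]; exact hs'
        exact h
      rw [hs, h0, mul_zero, zero_mul, add_zero]
  have key : ∀ P P', MvPolynomial.aeval x P = MvPolynomial.aeval x P' → ∀ i, g P i = g P' i := fun P P' h i => by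
    have hmem : P - P' ∈ relIdeal p a := by
      rw [← ker_aeval_eq p x a ha hli, RingHom.mem_ker, map_sub, h, sub_self]
    simpa [g, sub_eq_zero] using hgrel _ hmem i
  choose lift hlift using hsurj
  have hd : ∀ i, ∃ d : Derivation R Q Q, ∀ P, d (MvPolynomial.aeval x P) = g P i := fun i => by
    refine ⟨{ toFun := fun q => g (lift q) i
              map_add' := fun u v => ?_
              map_smul' := fun r u => ?_
              map_one_eq_zero' := ?_
              leibniz' := fun u v => ?_ }, fun P => ?_⟩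
    · rw [key (lift (u + v)) (lift u + lift v) (by rw [map_add, hlift, hlift, hlift]) i]
      simp [g]
    · rw [key (lift (r • u)) (r • lift u) (by rw [map_smul, hlift, hlift]) i]
      simp [g]
    · show g (lift 1) i = 0
      rw [key (lift 1) 1 (by rw [map_one, hlift]) i]
      simp [g]
    · show g (lift (u * v)) i = u • g (lift v) i + v • g (lift u) i
      rw [key (lift (u * v)) (lift u * lift v) (by rw [map_mul, hlift, hlift, hlift]) i]
      simp [g, hlift]
    · exact key _ _ (hlift _) i
  choose d hd using hd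
  have hdx : ∀ i j, d i (x j) = if j = i then 1 else 0 := fun i j => by
    have h := hd i (MvPolynomial.X j)
    rw [MvPolynomial.aeval_X] at h
    rw [h]
    simp only [g, MvPolynomial.pderiv_X, Pi.single_apply]
    split_ifs <;> simp_all
  have hsp : Submodule.span Q (Set.range fun i => KaehlerDifferential.D R Q (x i)) = ⊤ := by
    rw [eq_top_iff, ← KaehlerDifferential.span_range_derivation, Submodule.span_le]
    rintro _ ⟨q, rfl⟩
    have hq : q ∈ Algebra.adjoin R (Set.range x) := htop ▸ Algebra.mem_top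
    induction hq using Algebra.adjoin_induction with
    | mem w hw => obtain ⟨i, rfl⟩ := hw; exact Submodule.subset_span ⟨i, rfl⟩
    | algebraMap r => rw [Derivation.map_algebraMap]; exact zero_mem _
    | add u v _ _ hu hv => rw [map_add]; exact add_mem hu hv
    | mul u v _ _ hu hv =>
      rw [Derivation.leibniz]
      exact add_mem (Submodule.smul_mem _ _ hv) (Submodule.smul_mem _ _ hu)
  have hind : LinearIndependent Q fun i => KaehlerDifferential.D R Q (x i) := by
    rw [linearIndependent_iff]
    intro l hl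
    ext i
    have h := congrArg (d i).liftKaehlerDifferential hl
    rw [Finsupp.linearCombination_apply, map_finsuppSum, map_zero] at h
    simpa [map_smul, hdx] using h
  exact ⟨Module.Basis.mk hind hsp.ge, fun i => Module.Basis.mk_apply hind _ i⟩

end monomials

section pPower

variable (p : ℕ) [Fact p.Prime] {A B : Type u} [CommRing A] [CommRing B] [Algebra A B]

theorem pow_mem_range_pPower {ι : Type u} (x : ι → B) :
    ∀ i, x i ^ p ∈ Set.range (algebraMap (pPowerSubalgebra p A B) B) := fun i =>
  ⟨⟨x i ^ p, Algebra.subset_adjoin ⟨x i, rfl⟩⟩, rfl⟩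

theorem derivation_pPower_eq_zero [CharP B p] {M : Type u} [AddCommGroup M] [Module B M] [Module A M]
    (d : Derivation A B M) {b : B} (hb : b ∈ pPowerSubalgebra p A B) : d b = 0 := by
  induction hb using Algebra.adjoin_induction with
  | mem w hw =>
    obtain ⟨c, rfl⟩ := hw
    rw [Derivation.leibniz_pow, ← Nat.cast_smul_eq_nsmul B, CharP.cast_eq_zero, zero_smul]
  | algebraMap r => exact d.map_algebraMap r
  | add u v _ _ hu hv => rw [map_add, hu, hv, add_zero]
  | mul u v _ _ hu hv => rw [Derivation.leibniz, hu, hv, smul_zero, smul_zero, add_zero]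

theorem map_bijective_of_le [CharP B p] (A' : Subalgebra A B) (hA' : A' ≤ pPowerSubalgebra p A B) :
    Function.Bijective (KaehlerDifferential.map A A' B B) := by
  refine ⟨LinearMap.ker_eq_bot.mp ?_, KaehlerDifferential.map_surjective A A' B⟩
  rw [LinearMap.exact_iff.mp (KaehlerDifferential.exact_mapBaseChange_map A A' B), LinearMap.range_eq_bot]
  refine TensorProduct.AlgebraTensorModule.ext fun b w => ?_
  rw [LinearMap.zero_apply, KaehlerDifferential.mapBaseChange_tmul]
  have hw : w ∈ Submodule.span A' (Set.range (KaehlerDifferential.D A A')) := by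
    rw [KaehlerDifferential.span_range_derivation]; trivial
  induction hw using Submodule.span_induction with
  | mem _ h =>
    obtain ⟨c, rfl⟩ := h
    rw [KaehlerDifferential.map_D, show algebraMap A' B c = (c : B) from rfl,
      derivation_pPower_eq_zero p _ (hA' c.2), smul_zero]
  | zero => simp
  | add u v _ _ hu hv => rw [map_add, smul_add, hu, hv, add_zero]
  | smul r u _ hu => rw [map_smul, smul_comm, hu, smul_zero]

theorem isPGenerating_iff_adjoin {ι : Type u} (x : ι → B) :
    Algebra.adjoin (pPowerSubalgebra p A B) (Set.range x) = ⊤ ↔ IsPGenerating p A x := by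
  rw [IsPGenerating, span_pMonomial_eq_adjoin p x (pow_mem_range_pPower p x), Algebra.toSubmodule_eq_top]

end pPower

end Groth.Agent.PBasis
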