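import Groth.Agent.Lib.PBasis.Nil

/-!
# `p`-bases when the base contains all `p`-th powers
-/

universe u

namespace Groth.Agent.PBasis

open EGA41

variable (p : ℕ) [Fact p.Prime] {A B : Type u} [CommRing A] [CommRing B] [Algebra A B] {ι : Type u}

theorem mem_range_of_mem_pPower (hpow : ∀ b : B, b ^ p ∈ Set.range (algebraMap A B)) {b : B}
    (hb : b ∈ pPowerSubalgebra p A B) : b ∈ Set.range (algebraMap A B) := by
  induction hb using Algebra.adjoin_induction with
  | mem w hw => obtain ⟨c, rfl⟩ := hw; exact hpow c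
  | algebraMap r => exact ⟨r, rfl⟩
  | add u v _ _ hu hv =>
    obtain ⟨r, rfl⟩ := hu
    obtain ⟨s, rfl⟩ := hv
    exact ⟨r + s, map_add _ _ _⟩
  | mul u v _ _ hu hv =>
    obtain ⟨r, rfl⟩ := hu
    obtain ⟨s, rfl⟩ := hv
    exact ⟨r * s, map_mul _ _ _⟩

theorem linearIndependent_of_isPBasis (hinj : Function.Injective (algebraMap A B)) (x : ι → B)
    (hx : IsPBasis p A x) :
    LinearIndependent A fun e : {e : ι →₀ ℕ // ∀ i, e i < p} => pMonomial x e.1 := by
  refine LinearIndependent.restrict_scalars ?_ hx.1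
  intro r s h
  refine hinj ?_
  simpa [Algebra.smul_def] using congrArg Subtype.val h

theorem span_of_isPBasis (hpow : ∀ b : B, b ^ p ∈ Set.range (algebraMap A B)) (x : ι → B)
    (hx : IsPGenerating p A x) :
    Submodule.span A (Set.range fun e : {e : ι →₀ ℕ // ∀ i, e i < p} => pMonomial x e.1) = ⊤ := by
  rw [span_pMonomial_eq_adjoin p x fun i => hpow (x i), Algebra.toSubmodule_eq_top, eq_top_iff]
  rintro b -
  have hb : b ∈ Algebra.adjoin (pPowerSubalgebra p A B) (Set.range x) := by
    rw [(isPGenerating_iff_adjoin p x).mpr hx]; trivial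
  induction hb using Algebra.adjoin_induction with
  | mem w hw => exact Algebra.subset_adjoin hw
  | algebraMap r =>
    obtain ⟨a, ha⟩ := mem_range_of_mem_pPower p hpow r.2
    rw [show algebraMap _ B r = algebraMap A B a from ha.symm]
    exact Subalgebra.algebraMap_mem _ a
  | add u v _ _ hu hv => exact add_mem hu hv
  | mul u v _ _ hu hv => exact mul_mem hu hv

theorem existsUnique_algHom (hinj : Function.Injective (algebraMap A B))
    (hpow : ∀ b : B, b ^ p ∈ Set.range (algebraMap A B)) (x : ι → B) (hx : IsPBasis p A x)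
    {C : Type u} [CommRing C] [Algebra A C] (c : ι → C)
    (hc : ∀ i a, algebraMap A B a = x i ^ p → c i ^ p = algebraMap A C a) :
    ∃! φ : B →ₐ[A] C, ∀ i, φ (x i) = c i := by
  choose a ha using fun i => hpow (x i)
  exact existsUnique_lift p x a (fun i => (ha i).symm) (linearIndependent_of_isPBasis p hinj x hx)
    (span_of_isPBasis p hpow x hx.2) c fun i => hc i (a i) (ha i)

end Groth.Agent.PBasis
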